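import Mathlib

set_option autoImplicit false

/-! S3174 Part I, leaf A01: strict growth of the upper central series of a finite 2-group. -/

namespace Cfsg.Agent.Lib.Helper19.RU

variable {T : Type*} [Group T] [Finite T]

/-- I.1: in a finite `2`-group, `Z_i ≠ ⊤` implies `Z_i < Z_{i+1}`. -/
theorem ucs_lt (hT : IsPGroup 2 T) (i : ℕ) (h : Subgroup.upperCentralSeries T i ≠ ⊤) :
    Subgroup.upperCentralSeries T i < Subgroup.upperCentralSeries T (i + 1) := by
  haveI : Fact (Nat.Prime 2) := ⟨Nat.prime_two⟩
  haveI : Group.IsNilpotent T := hT.isNilpotent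
  refine lt_of_le_of_ne (Subgroup.upperCentralSeries_mono T (Nat.le_succ i)) ?_
  intro heq
  exact h (Subgroup.upperCentralSeries.eq_top (Nat.succ_ne_self i).symm heq)

end Cfsg.Agent.Lib.Helper19.RU
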