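import Mathlib
import Cfsg.Agent.Lib.Helper19.RU.A01
import Cfsg.Agent.Lib.Helper9.RUI12

set_option autoImplicit false

/-! S3174 Part I, leaf A02: `|Z_i| = 2 ^ i` for `i ≤ 4`. -/

namespace Cfsg.Agent.Lib.Helper19.RU

variable {T : Type*} [Group T] [Finite T]

/-- I.1 (orders).  RECIPE: `Z_4 ≠ ⊤` because `|Z_4| = 16 < 2^14 ≤ |T|` (if `Z_4 = ⊤` then
`Nat.card ↥(⊤ : Subgroup T) = Nat.card T`, `Subgroup.card_top`).  Hence `Z_i ≠ ⊤` for `i ≤ 4`
(monotone: `Subgroup.upperCentralSeries_mono`), so by `ucs_lt` (A01)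
`Z_0 < Z_1 < Z_2 < Z_3 < Z_4`.  Each `Nat.card ↥(Z_i)` is a power of `2`
(`(hT.to_subgroup _).exists_card_eq` or `IsPGroup.card_eq_or_dvd`), strictly increasing
(`Subgroup.card_lt_card_of_lt`?? or: `Subgroup.card_dvd_of_le` + `Subgroup.eq_of_le_of_card_ge`),
`|Z_0| = 1` (`Subgroup.upperCentralSeries_zero`, `Subgroup.card_bot`) and `|Z_4| = 16 = 2^4`;
so the exponents `0 = e_0 < e_1 < e_2 < e_3 < e_4 = 4` are forced: `e_i = i` (`omega` after
`Nat.pow_lt_pow_iff_right`).  See `Cfsg.Agent.Lib.Helper27.MC.pow_dvd_succ_of_lt`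
(`Lib/Helper27/MaxClassA.lean`) for a ready-made divisibility step. -/
theorem ucs_card (hT : IsPGroup 2 T) (ha : 2 ^ 14 ≤ Nat.card T)
    (hb : Nat.card ↥(Subgroup.upperCentralSeries T 4) = 16) :
    ∀ i, i ≤ 4 → Nat.card ↥(Subgroup.upperCentralSeries T i) = 2 ^ i := by
  haveI : Fact (Nat.Prime 2) := ⟨Nat.prime_two⟩
  have hne : Subgroup.upperCentralSeries T 4 ≠ ⊤ := by
    intro htop
    rw [htop, Subgroup.card_top] at hb
    omega
  exact Cfsg.Agent.Lib.Helper9.RUI12.card_ucs_eq_of_card_eq hT 4 (by rw [hb]; norm_num) hne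

end Cfsg.Agent.Lib.Helper19.RU
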