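import Mathlib

set_option autoImplicit false

/-! S3174 Part I, leaf A03: in a nilpotent group `[N,T] < N` for a nontrivial normal `N`. -/

namespace Cfsg.Agent.Lib.Helper19.RU

variable {T : Type*} [Group T]

/-- RECIPE: `⁅N, ⊤⁆ ≤ N` is `Subgroup.commutator_le_left` (N normal).  If `⁅N, ⊤⁆ = N` then by
induction `N ≤ lowerCentralSeries T i` for all `i`
(`N = ⁅N,⊤⁆ ≤ ⁅lowerCentralSeries T i, ⊤⁆ = lowerCentralSeries T (i+1)`, `Subgroup.commutator_mono`,
`lowerCentralSeries_succ`), and `lowerCentralSeries T n = ⊥` for some `n`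
(`nilpotent_iff_lowerCentralSeries.mp`), so `N = ⊥`. -/
theorem comm_top_lt [Group.IsNilpotent T] (N : Subgroup T) (hN : N.Normal) (hne : N ≠ ⊥) :
    ⁅N, (⊤ : Subgroup T)⁆ < N := by
  have hle : ⁅N, (⊤ : Subgroup T)⁆ ≤ N := Subgroup.commutator_le_left N ⊤
  refine lt_of_le_of_ne hle ?_
  intro heq
  apply hne
  have hall : ∀ i : ℕ, N ≤ (⊤ : Subgroup T).lowerCentralSeries i := by
    intro i
    induction i with
    | zero => rw [Subgroup.lowerCentralSeries_zero]; exact le_top
    | succ i ih =>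
      calc N = ⁅N, (⊤ : Subgroup T)⁆ := heq.symm
        _ ≤ ⁅(⊤ : Subgroup T).lowerCentralSeries i, (⊤ : Subgroup T)⁆ := Subgroup.commutator_mono ih le_rfl
        _ = (⊤ : Subgroup T).lowerCentralSeries (i + 1) := (Subgroup.lowerCentralSeries_succ (⊤ : Subgroup T) i).symm
  obtain ⟨n, hn⟩ := Subgroup.nilpotent_iff_lowerCentralSeries.mp (inferInstance : Group.IsNilpotent T)
  have := hall n
  rw [hn] at this
  exact le_bot_iff.mp this

end Cfsg.Agent.Lib.Helper19.RU
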