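import Mathlib
import Cfsg.Agent.Lib.Helper19.RU.A03
import Cfsg.Agent.Lib.Helper9.RUI12

set_option autoImplicit false

/-! S3174 Part I, leaf A04: a normal subgroup of order dividing `2 ^ k` lies in `Z_k`. -/

namespace Cfsg.Agent.Lib.Helper19.RU

variable {T : Type*} [Group T] [Finite T]

/-- I.2.  RECIPE: induction on `k` generalizing `N`.  `k = 0`: `Nat.card N ∣ 1` so `N = ⊥`
(`Subgroup.card_eq_one`... `Subgroup.eq_bot_of_card_eq`).  Step: if `N = ⊥` trivial; else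
`M := ⁅N, ⊤⁆` is normal (`Subgroup.commutator_normal`), `M < N` (A03 `comm_top_lt`, `T` nilpotent by
`hT.isNilpotent`), so `Nat.card M` is a proper divisor of `Nat.card N` (`Subgroup.card_dvd_of_le`,
`Subgroup.eq_of_le_of_card_ge`) and both are powers of `2` dividing `2^(k+1)`, hence
`Nat.card M ∣ 2^k` (`Nat.dvd_prime_pow`).  By IH `M ≤ Z_k`; then for `n ∈ N` and every `t`,
`⁅n,t⁆ = n*t*n⁻¹*t⁻¹ ∈ M ≤ Z_k` (`Subgroup.commutator_mem_commutator`), i.e. `n ∈ Z_{k+1}`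
(`Subgroup.mem_upperCentralSeries_succ_iff`). -/
theorem normal_le_ucs (hT : IsPGroup 2 T) (k : ℕ) (N : Subgroup T) (hN : N.Normal)
    (hk : Nat.card ↥N ∣ 2 ^ k) : N ≤ Subgroup.upperCentralSeries T k := by
  haveI : Fact (Nat.Prime 2) := ⟨Nat.prime_two⟩
  haveI := hN
  exact Cfsg.Agent.Lib.Helper9.RUI12.normal_le_ucs hT N k (Nat.le_of_dvd (by positivity) hk)

end Cfsg.Agent.Lib.Helper19.RU
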