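import Mathlib

set_option autoImplicit false

/-! S3174 Part I, leaf A05: `Phi(W)` (viewed inside `T`) is normal in `T`; its order. -/

namespace Cfsg.Agent.Lib.Helper19.RU

variable {T : Type*} [Group T]

/-- I.3: the Frattini subgroup of a normal subgroup is normal in the whole group.
RECIPE: `frattini_characteristic` + the Mathlib instance
`ConjAct.normal_of_characteristic_of_normal` (`haveI := hWn; infer_instance`). -/
theorem Phi_normal (W : Subgroup T) (hWn : W.Normal) :
    ((frattini ↥W).map W.subtype).Normal := by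
  haveI := hWn
  infer_instance

/-- Order of the image in `T` of a subgroup of `↥W`. -/
theorem card_map_subtype (W : Subgroup T) (K : Subgroup ↥W) :
    Nat.card ↥(K.map W.subtype) = Nat.card ↥K :=
  Nat.card_congr (K.equivMapOfInjective W.subtype W.subtype_injective).symm.toEquiv

/-- Membership in the image in `T` of a subgroup of `↥W`. -/
theorem mem_map_subtype_iff (W : Subgroup T) (K : Subgroup ↥W) (x : T) :
    x ∈ K.map W.subtype ↔ ∃ h : x ∈ W, (⟨x, h⟩ : ↥W) ∈ K := by
  constructor
  · rintro ⟨y, hy, rfl⟩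
    exact ⟨y.2, hy⟩
  · rintro ⟨h, hk⟩
    exact ⟨⟨x, h⟩, hk, rfl⟩

theorem map_subtype_le (W : Subgroup T) (K : Subgroup ↥W) : K.map W.subtype ≤ W := by
  rintro _ ⟨y, _, rfl⟩
  exact y.2

end Cfsg.Agent.Lib.Helper19.RU
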