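import Mathlib
import Cfsg.Agent.Lib.Helper19.RU.A02
import Cfsg.Agent.Lib.Helper19.RU.A04
import Cfsg.Agent.Lib.Helper19.RU.A05

set_option autoImplicit false

/-! S3174 Part I, leaf A06: `Phi(W) = Z_j` for some `j ≤ 3`. -/

namespace Cfsg.Agent.Lib.Helper19.RU

variable {T : Type*} [Group T] [Finite T]

/-- I.3.  RECIPE: `P := (frattini ↥W).map W.subtype` is normal (`Phi_normal`), a `2`-group
(`hT.to_subgroup P`), so `Nat.card P = 2 ^ j` (`IsPGroup.exists_card_eq`, needs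
`Fact (Nat.Prime 2)`), and `Nat.card P = Nat.card (frattini ↥W) ≤ 8` (`card_map_subtype`) gives
`j ≤ 3` (`Nat.pow_le_pow_iff_right` / `Nat.pow_lt_pow_iff_right`, or `interval_cases`).  By A04
`normal_le_ucs` `P ≤ Z_j`, by A02 `ucs_card` `Nat.card (Z_j) = 2 ^ j`, so equality
(`Subgroup.eq_of_le_of_card_ge`). -/
theorem Phi_eq_ucs (hT : IsPGroup 2 T) (ha : 2 ^ 14 ≤ Nat.card T)
    (hb : Nat.card ↥(Subgroup.upperCentralSeries T 4) = 16)
    (W : Subgroup T) (hWn : W.Normal) (hc : Nat.card ↥(frattini ↥W) ≤ 8) :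
    ∃ j, j ≤ 3 ∧ (frattini ↥W).map W.subtype = Subgroup.upperCentralSeries T j := by
  haveI : Fact (Nat.Prime 2) := ⟨Nat.prime_two⟩
  set P : Subgroup T := (frattini ↥W).map W.subtype with hP
  have hPn : P.Normal := Phi_normal W hWn
  obtain ⟨j, hj⟩ := (hT.to_subgroup P).exists_card_eq
  have hcard : Nat.card ↥P = Nat.card ↥(frattini ↥W) := card_map_subtype W (frattini ↥W)
  have hj3 : j ≤ 3 := by
    by_contra hcon
    have h1 : 2 ^ 4 ≤ 2 ^ j := Nat.pow_le_pow_right (by norm_num) (by omega)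
    rw [← hj, hcard] at h1
    omega
  refine ⟨j, hj3, ?_⟩
  have hle : P ≤ Subgroup.upperCentralSeries T j := normal_le_ucs hT j P hPn (by rw [hj])
  have hZ : Nat.card ↥(Subgroup.upperCentralSeries T j) = 2 ^ j := ucs_card hT ha hb j (by omega)
  exact Subgroup.eq_of_le_of_card_ge hle (by rw [hZ, hj])

end Cfsg.Agent.Lib.Helper19.RU
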