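import Mathlib
import Cfsg.Agent.Lib.Helper19.RU.A05

set_option autoImplicit false

/-! S3174 Part I, leaf A07: `Phi(W) ≤ Z(W)`. -/

namespace Cfsg.Agent.Lib.Helper19.RU

variable {T : Type*} [Group T]

/-- I.3.  RECIPE: for `f ∈ frattini ↥W` the element `(f : T)` lies in `(frattini ↥W).map W.subtype
≤ Z_j ≤ Z_3` (`Subgroup.upperCentralSeries_mono`), and every `w ∈ W = centralizer Z_3` commutes
with it (`Subgroup.mem_centralizer_iff`); conclude with `Subgroup.mem_center_iff` and `Subtype.ext`. -/
theorem frattini_le_center (W : Subgroup T)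
    (hW : W = Subgroup.centralizer ((Subgroup.upperCentralSeries T 3 : Subgroup T) : Set T))
    (j : ℕ) (hj : j ≤ 3)
    (hP : (frattini ↥W).map W.subtype = Subgroup.upperCentralSeries T j) :
    frattini ↥W ≤ Subgroup.center ↥W := by
  intro f hf
  rw [Subgroup.mem_center_iff]
  intro w
  apply Subtype.ext
  rw [Subgroup.coe_mul, Subgroup.coe_mul]
  have h1 : (f : T) ∈ (frattini ↥W).map W.subtype := ⟨f, hf, rfl⟩
  rw [hP] at h1
  have h2 : (f : T) ∈ Subgroup.upperCentralSeries T 3 := Subgroup.upperCentralSeries_mono T hj h1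
  have h3 : (w : T) ∈ Subgroup.centralizer ((Subgroup.upperCentralSeries T 3 : Subgroup T) : Set T) := by
    rw [← hW]; exact w.2
  exact ((Subgroup.mem_centralizer_iff.mp h3) (f : T) h2).symm

end Cfsg.Agent.Lib.Helper19.RU
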