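import Mathlib

set_option autoImplicit false

/-! S3174 Part I, leaf A08: the centralizer of an element of `Z_{i+1}` has index at most `|Z_i|`. -/

namespace Cfsg.Agent.Lib.Helper19.RU

variable {T : Type*} [Group T] [Finite T]

/-- I.4 (one element).  RECIPE: the conjugacy class of `a` is contained in `Z_i * a`:
`t * a * t⁻¹ = ⁅t, a⁆ * a` and `⁅t,a⁆ = (⁅a,t⁆)⁻¹ ∈ Z_i` by
`Subgroup.mem_upperCentralSeries_succ_iff` (`a * t * a⁻¹ * t⁻¹ ∈ Z_i` for all `t`).  Either
(a) orbit-stabilizer: `ConjAct.stabilizer_eq_centralizer`, `MulAction.index_stabilizer`, and the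
orbit injects into `Z_i` via `b ↦ b * a⁻¹`; or (b) directly: the map `T ⧸ C → Z_i`,
`t C ↦ ⁅t, a⁆` is well defined and injective on left cosets of `C = centralizer {a}`
(`⁅t c, a⁆ = ⁅t, a⁆` for `c ∈ C`; `⁅t,a⁆ = ⁅t',a⁆ → t⁻¹ t' ∈ C`), so
`C.index = Nat.card (T ⧸ C) ≤ Nat.card Z_i` (`Nat.card_le_card_of_injective`). -/
theorem index_centralizer_le (i : ℕ) (a : T) (ha : a ∈ Subgroup.upperCentralSeries T (i + 1)) :
    (Subgroup.centralizer ({a} : Set T)).index ≤ Nat.card ↥(Subgroup.upperCentralSeries T i) := by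
  classical
  set C := Subgroup.centralizer ({a} : Set T) with hC
  set Z := Subgroup.upperCentralSeries T i with hZ
  have hmem : ∀ t : T, t * a * t⁻¹ * a⁻¹ ∈ Z := by
    intro t
    have h := (Subgroup.mem_upperCentralSeries_succ_iff).mp ha t
    -- h : a * t * a⁻¹ * t⁻¹ ∈ Z
    have h2 : (a * t * a⁻¹ * t⁻¹)⁻¹ ∈ Z := Z.inv_mem h
    have : (a * t * a⁻¹ * t⁻¹)⁻¹ = t * a * t⁻¹ * a⁻¹ := by group
    rwa [this] at h2
  -- map on T
  let f : T → ↥Z := fun t => ⟨t * a * t⁻¹ * a⁻¹, hmem t⟩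
  have hf : ∀ s t : T, (QuotientGroup.leftRel C) s t → f s = f t := by
    intro s t hst
    rw [QuotientGroup.leftRel_apply] at hst
    -- s⁻¹ * t ∈ C
    have hc : (s⁻¹ * t) * a = a * (s⁻¹ * t) := by
      have := (Subgroup.mem_centralizer_singleton_iff).mp hst
      exact this
    apply Subtype.ext
    show s * a * s⁻¹ * a⁻¹ = t * a * t⁻¹ * a⁻¹
    have h1 : s * a * s⁻¹ = t * a * t⁻¹ := by
      have h3 : a = (s⁻¹ * t) * a * (s⁻¹ * t)⁻¹ := by
        rw [hc]; group
      calc s * a * s⁻¹ = s * ((s⁻¹ * t) * a * (s⁻¹ * t)⁻¹) * s⁻¹ := by rw [← h3]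
        _ = t * a * t⁻¹ := by group
    rw [h1]
  let F : T ⧸ C → ↥Z := Quotient.lift f hf
  have hinj : Function.Injective F := by
    intro x y hxy
    induction x using Quotient.inductionOn with
    | _ s =>
      induction y using Quotient.inductionOn with
      | _ t =>
        apply Quotient.sound
        show (QuotientGroup.leftRel C) s t
        rw [QuotientGroup.leftRel_apply]
        have h0 : f s = f t := hxy
        have h1 : s * a * s⁻¹ * a⁻¹ = t * a * t⁻¹ * a⁻¹ := congrArg Subtype.val h0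
        have h2 : s * a * s⁻¹ = t * a * t⁻¹ := mul_right_cancel h1
        apply (Subgroup.mem_centralizer_singleton_iff).mpr
        -- (s⁻¹ * t) * a = a * (s⁻¹ * t)
        have h3 : a = s⁻¹ * (t * a * t⁻¹) * s := by rw [← h2]; group
        calc (s⁻¹ * t) * a = s⁻¹ * (t * a * t⁻¹) * s * (s⁻¹ * t) := by group
          _ = a * (s⁻¹ * t) := by rw [← h3]
  have := Nat.card_le_card_of_injective F hinj
  exact this

end Cfsg.Agent.Lib.Helper19.RU
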