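import Mathlib

set_option autoImplicit false

/-! S3174 Part I, leaf A09: a subgroup of index 2 plus one outside element generate. -/

namespace Cfsg.Agent.Lib.Helper19.RU

variable {T : Type*} [Group T] [Finite T]

/-- RECIPE: `A ≤ B`, `Nat.card B = 2 * Nat.card A`.  `A ≠ B` (cards differ, `Nat.card A > 0`), so
pick `a ∈ B`, `a ∉ A` (`SetLike.exists_of_lt`).  `A < A ⊔ zpowers a ≤ B`; `Nat.card A ∣
Nat.card (A ⊔ zpowers a) ∣ Nat.card B = 2 * Nat.card A` with the middle one `≠ Nat.card A`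
(`Subgroup.eq_of_le_of_card_ge`), so the middle one is `2 * Nat.card A` (write it as
`m * Nat.card A`, then `m ∣ 2`, `m ≠ 1`), hence equality of subgroups
(`Subgroup.eq_of_le_of_card_ge`). -/
theorem exists_sup_zpowers (A B : Subgroup T) (hAB : A ≤ B)
    (hcard : Nat.card ↥B = 2 * Nat.card ↥A) :
    ∃ a, a ∈ B ∧ a ∉ A ∧ B = A ⊔ Subgroup.zpowers a := by
  classical
  have hApos : 0 < Nat.card ↥A := Nat.card_pos
  have hne : A ≠ B := by
    intro h
    rw [h] at hcard hApos
    omega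
  have hlt : A < B := lt_of_le_of_ne hAB hne
  obtain ⟨a, haB, haA⟩ := SetLike.exists_of_lt hlt
  refine ⟨a, haB, haA, ?_⟩
  set M := A ⊔ Subgroup.zpowers a with hM
  have hAM : A ≤ M := le_sup_left
  have hMB : M ≤ B := sup_le hAB ((Subgroup.zpowers_le).mpr haB)
  have haM : a ∈ M := (le_sup_right : Subgroup.zpowers a ≤ M) (Subgroup.mem_zpowers a)
  have hd1 : Nat.card ↥A ∣ Nat.card ↥M := Subgroup.card_dvd_of_le hAM
  have hd2 : Nat.card ↥M ∣ Nat.card ↥B := Subgroup.card_dvd_of_le hMB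
  obtain ⟨m, hm⟩ := hd1
  have hm_ne1 : m ≠ 1 := by
    intro h1
    rw [h1, mul_one] at hm
    have : M = A := (Subgroup.eq_of_le_of_card_ge hAM (le_of_eq hm)).symm
    exact haA (this ▸ haM)
  have hmdvd : m ∣ 2 := by
    rw [hcard, hm] at hd2
    have : Nat.card ↥A * m ∣ Nat.card ↥A * 2 := by rwa [mul_comm 2 _] at hd2
    exact (Nat.mul_dvd_mul_iff_left hApos).mp this
  have hm2 : m = 2 := by
    have hle : m ≤ 2 := Nat.le_of_dvd (by norm_num) hmdvd
    have hpos : m ≠ 0 := by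
      rintro rfl
      simp at hmdvd
    interval_cases m
    · exact absurd rfl hpos
    · exact absurd rfl hm_ne1
    · rfl
  have hcardM : Nat.card ↥M = Nat.card ↥B := by
    rw [hm, hm2, hcard, mul_comm]
  exact (Subgroup.eq_of_le_of_card_ge hMB (le_of_eq hcardM.symm)).symm

end Cfsg.Agent.Lib.Helper19.RU
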