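import Mathlib
import Cfsg.Agent.Lib.Helper19.RU.A08
import Cfsg.Agent.Lib.Helper19.RU.A09

set_option autoImplicit false

/-! S3174 Part I, leaf A10: `|T : C_T(Z_3)| ≤ 8`. -/

namespace Cfsg.Agent.Lib.Helper19.RU

variable {T : Type*} [Group T] [Finite T]

/-- I.4.  RECIPE: by A09 `exists_sup_zpowers` (with `|Z_2| = 2 |Z_1|`, `|Z_3| = 2 |Z_2|`,
`Subgroup.upperCentralSeries_mono`) get `a2 ∈ Z_2`, `a3 ∈ Z_3` with `Z_2 = Z_1 ⊔ zpowers a2`,
`Z_3 = Z_2 ⊔ zpowers a3`.  CLAIM `centralizer {a2} ⊓ centralizer {a3} ≤ W`: if `t` commutes with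
`a2` and `a3` then the centralizer of `{t}` (a subgroup) contains `Z_1 = center T`
(`Subgroup.upperCentralSeries_one`), `zpowers a2`, `zpowers a3`, hence `Z_3` (`sup_le`,
`Subgroup.zpowers_le`); so `t ∈ centralizer Z_3` (`Subgroup.mem_centralizer_iff`).  Then
`W.index ≤ (C(a2) ⊓ C(a3)).index ≤ C(a2).index * C(a3).index ≤ |Z_1| * |Z_2| = 2 * 4`
(`Subgroup.index_antitone`/`Subgroup.index_le_of_le`?? for finite groups use
`Subgroup.index_dvd_of_le` + `Nat.le_of_dvd` (`Subgroup.index_ne_zero_of_finite`),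
`Subgroup.index_inf_le`, A08 `index_centralizer_le` with `i = 1` and `i = 2`). -/
theorem index_W_le (h1 : Nat.card ↥(Subgroup.upperCentralSeries T 1) = 2)
    (h2 : Nat.card ↥(Subgroup.upperCentralSeries T 2) = 4)
    (h3 : Nat.card ↥(Subgroup.upperCentralSeries T 3) = 8)
    (W : Subgroup T)
    (hW : W = Subgroup.centralizer ((Subgroup.upperCentralSeries T 3 : Subgroup T) : Set T)) :
    W.index ≤ 8 := by
  classical
  have hmono12 : Subgroup.upperCentralSeries T 1 ≤ Subgroup.upperCentralSeries T 2 :=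
    Subgroup.upperCentralSeries_mono T (by norm_num)
  have hmono23 : Subgroup.upperCentralSeries T 2 ≤ Subgroup.upperCentralSeries T 3 :=
    Subgroup.upperCentralSeries_mono T (by norm_num)
  obtain ⟨a2, ha2, _, hZ2⟩ := exists_sup_zpowers (Subgroup.upperCentralSeries T 1)
    (Subgroup.upperCentralSeries T 2) hmono12 (by rw [h1, h2])
  obtain ⟨a3, ha3, _, hZ3⟩ := exists_sup_zpowers (Subgroup.upperCentralSeries T 2)
    (Subgroup.upperCentralSeries T 3) hmono23 (by rw [h2, h3])
  have hle : Subgroup.centralizer ({a2} : Set T) ⊓ Subgroup.centralizer ({a3} : Set T) ≤ W := by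
    intro t ht
    rw [Subgroup.mem_inf] at ht
    obtain ⟨ht2, ht3⟩ := ht
    have ht2' : t * a2 = a2 * t := (Subgroup.mem_centralizer_singleton_iff).mp ht2
    have ht3' : t * a3 = a3 * t := (Subgroup.mem_centralizer_singleton_iff).mp ht3
    -- centralizer of {t} contains Z_3
    have hZ1 : Subgroup.upperCentralSeries T 1 ≤ Subgroup.centralizer ({t} : Set T) := by
      rw [Subgroup.upperCentralSeries_one]
      intro z hz
      apply (Subgroup.mem_centralizer_singleton_iff).mpr
      exact ((Subgroup.mem_center_iff.mp hz) t).symm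
    have hA2 : Subgroup.zpowers a2 ≤ Subgroup.centralizer ({t} : Set T) := by
      rw [Subgroup.zpowers_le]
      apply (Subgroup.mem_centralizer_singleton_iff).mpr
      exact ht2'.symm
    have hA3 : Subgroup.zpowers a3 ≤ Subgroup.centralizer ({t} : Set T) := by
      rw [Subgroup.zpowers_le]
      apply (Subgroup.mem_centralizer_singleton_iff).mpr
      exact ht3'.symm
    have hZ2le : Subgroup.upperCentralSeries T 2 ≤ Subgroup.centralizer ({t} : Set T) := by
      rw [hZ2]; exact sup_le hZ1 hA2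
    have hZ3le : Subgroup.upperCentralSeries T 3 ≤ Subgroup.centralizer ({t} : Set T) := by
      rw [hZ3]; exact sup_le hZ2le hA3
    rw [hW, Subgroup.mem_centralizer_iff]
    intro z hz
    have := (Subgroup.mem_centralizer_singleton_iff).mp (hZ3le hz)
    -- this : z * t = t * z
    exact this
  have hi2 : (Subgroup.centralizer ({a2} : Set T)).index ≤ 2 := by
    have := index_centralizer_le 1 a2 ha2
    rwa [h1] at this
  have hi3 : (Subgroup.centralizer ({a3} : Set T)).index ≤ 4 := by
    have := index_centralizer_le 2 a3 ha3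
    rwa [h2] at this
  have hinf : (Subgroup.centralizer ({a2} : Set T) ⊓ Subgroup.centralizer ({a3} : Set T)).index ≤ 8 := by
    calc (Subgroup.centralizer ({a2} : Set T) ⊓ Subgroup.centralizer ({a3} : Set T)).index
        ≤ (Subgroup.centralizer ({a2} : Set T)).index * (Subgroup.centralizer ({a3} : Set T)).index :=
          Subgroup.index_inf_le
      _ ≤ 2 * 4 := Nat.mul_le_mul hi2 hi3
      _ = 8 := by norm_num
  have hdvd : W.index ∣ (Subgroup.centralizer ({a2} : Set T) ⊓ Subgroup.centralizer ({a3} : Set T)).index :=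
    Subgroup.index_dvd_of_le hle
  have hne : (Subgroup.centralizer ({a2} : Set T) ⊓ Subgroup.centralizer ({a3} : Set T)).index ≠ 0 :=
    Subgroup.index_ne_zero_of_finite
  exact le_trans (Nat.le_of_dvd (Nat.pos_of_ne_zero hne) hdvd) hinf

end Cfsg.Agent.Lib.Helper19.RU
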