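import Mathlib
import Cfsg.Agent.Lib.Helper29.RU15

set_option autoImplicit false

/-! S3174 Part I, leaf A11 (= blueprint I.5): the fixed-point chain bound.
TO BE FILLED BY helper29 from `Cfsg/Agent/Lib/Helper29/RU15.lean` (import it here and `exact`). -/

namespace Cfsg.Agent.Lib.Helper19.RU

open scoped commutatorElement

variable {T : Type*} [Group T] [Finite T]

/-- I.5: `|W : P| ≤ |Y : P| ^ |T : W|` where `Y ⊇ {w ∈ W : [w,T] ≤ P}`.
(See `notes/S3174_blueprint_helper19.md`, step I.5.) -/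
theorem chain_bound (hT : IsPGroup 2 T) (W P Y : Subgroup T) (hWn : W.Normal) (hPn : P.Normal)
    (hPW : P ≤ W) (hcomm : ∀ u ∈ W, ∀ v ∈ W, ⁅u, v⁆ ∈ P) (hsq : ∀ w ∈ W, w ^ 2 ∈ P)
    (hY : ∀ w ∈ W, (∀ t : T, ⁅w, t⁆ ∈ P) → w ∈ Y) :
    P.relIndex W ≤ (P.relIndex Y) ^ W.index := by
  exact Cfsg.Agent.Lib.Helper29.RU15.chain_bound hT W P Y hWn hPn hPW hcomm hsq hY

end Cfsg.Agent.Lib.Helper19.RU
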