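import Mathlib

set_option autoImplicit false

/-! S3174 Part I, leaf A12: `|W ∩ Z_{j+1} : Z_j| ≤ 2`. -/

namespace Cfsg.Agent.Lib.Helper19.RU

variable {T : Type*} [Group T] [Finite T]

/-- I.6.  RECIPE: `Z_j ≤ W ⊓ Z_{j+1} ≤ Z_{j+1}` (`hPW`, `Subgroup.upperCentralSeries_mono`).
`(Z_j).relIndex K * Nat.card Z_j = Nat.card K` for `Z_j ≤ K`
(`Subgroup.relIndex_mul_card`?? / `Subgroup.card_mul_index` applied to `Z_j.subgroupOf K`, or
`Subgroup.relIndex_mul_relIndex`), `Nat.card K ∣ Nat.card Z_{j+1} = 2 * 2^j`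
(`Subgroup.card_dvd_of_le`), `Nat.card Z_j = 2^j`; so `relIndex ∣ 2`, hence `≤ 2`
(`Nat.le_of_dvd`). -/
theorem relIndex_Y_le (hcard : ∀ i, i ≤ 4 → Nat.card ↥(Subgroup.upperCentralSeries T i) = 2 ^ i)
    (j : ℕ) (hj : j ≤ 3) (W : Subgroup T) (hPW : Subgroup.upperCentralSeries T j ≤ W) :
    (Subgroup.upperCentralSeries T j).relIndex (W ⊓ Subgroup.upperCentralSeries T (j + 1)) ≤ 2 := by
  set Zj := Subgroup.upperCentralSeries T j with hZj
  set K := W ⊓ Subgroup.upperCentralSeries T (j + 1) with hK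
  have hZK : Zj ≤ K :=
    le_inf hPW (Subgroup.upperCentralSeries_mono T (Nat.le_succ j))
  have h1 : (⊥ : Subgroup T).relIndex Zj * Zj.relIndex K = (⊥ : Subgroup T).relIndex K :=
    Subgroup.relIndex_mul_relIndex ⊥ Zj K bot_le hZK
  rw [Subgroup.relIndex_bot_left, Subgroup.relIndex_bot_left] at h1
  have h2 : Nat.card ↥K ∣ Nat.card ↥(Subgroup.upperCentralSeries T (j + 1)) :=
    Subgroup.card_dvd_of_le inf_le_right
  rw [hcard (j + 1) (by omega), ← h1, hcard j (by omega), pow_succ] at h2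
  have h3 : Zj.relIndex K ∣ 2 := Nat.dvd_of_mul_dvd_mul_left (by positivity) h2
  exact Nat.le_of_dvd (by norm_num) h3

end Cfsg.Agent.Lib.Helper19.RU
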