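import Mathlib

set_option autoImplicit false

/-! S3174 Part I, leaf A13: pure arithmetic behind I.7. -/

namespace Cfsg.Agent.Lib.Helper19.RU

/-- I.7 (arithmetic).  `n = |T|`, `d = |T:W| ≤ 8`, `r = |W:P| ≤ y ^ d` with `y ≤ 2`, `|P| = 2^j`,
`j ≤ 3`, `n = d * r * 2^j ≥ 2^14`.  RECIPE: `r ≤ 2^d` (`Nat.pow_le_pow_left`), so
`2^14 ≤ d * 2^d * 2^j`; `interval_cases d <;> interval_cases j <;> omega`-style case check forces
`d = 8`, `j = 3`; then `r ≤ 2^8` and `2^14 ≤ 8 * r * 8` give `r = 2^8`, `n = 2^14`; finally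
`y = 2` since `y ≤ 1` would give `r ≤ 1`. -/
theorem orders_arith (n d r y j : ℕ) (hn : 2 ^ 14 ≤ n) (hd : d ≤ 8) (hj : j ≤ 3) (hy : y ≤ 2)
    (hr : r ≤ y ^ d) (hprod : n = d * r * 2 ^ j) :
    n = 2 ^ 14 ∧ d = 8 ∧ j = 3 ∧ r = 2 ^ 8 ∧ y = 2 := by
  have hr2 : r ≤ 2 ^ d := hr.trans (Nat.pow_le_pow_left hy d)
  have hmain : 2 ^ 14 ≤ d * r * 2 ^ j := hprod ▸ hn
  have hd8 : d = 8 ∧ j = 3 := by
    interval_cases d <;> interval_cases j <;> simp at hr2 hmain ⊢ <;> nlinarith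
  obtain ⟨rfl, rfl⟩ := hd8
  have hr8 : r = 2 ^ 8 := by
    norm_num at hr2 hmain ⊢
    omega
  subst hr8
  have hy2 : y = 2 := by
    interval_cases y
    · norm_num at hr
    · norm_num at hr
    · rfl
  refine ⟨?_, rfl, rfl, rfl, hy2⟩
  rw [hprod]; norm_num

end Cfsg.Agent.Lib.Helper19.RU
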