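import Mathlib
import Cfsg.Agent.Lib.Helper19.RU.A12
import Cfsg.Agent.Lib.Helper19.RU.A13

set_option autoImplicit false

/-! S3174 Part I, leaf A14: the orders (I.7). -/

namespace Cfsg.Agent.Lib.Helper19.RU

variable {T : Type*} [Group T] [Finite T]

/-- I.7.  RECIPE: put `n = Nat.card T`, `d = W.index`, `r = (Z_j).relIndex W`,
`y = (Z_j).relIndex (W ⊓ Z_{j+1})`.  `n = d * Nat.card W` (`Subgroup.index_mul_card`) and
`Nat.card W = r * Nat.card Z_j = r * 2^j` (`Z_j ≤ W`: `Subgroup.relIndex_mul_card`?? or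
`Subgroup.card_mul_index (Z_j.subgroupOf W)` + `Subgroup.subgroupOfEquivOfLe`), `y ≤ 2` by A12.
Apply A13 `orders_arith`.  For `Z_4 ≤ W`: `j = 3`, `y = 2` gives
`Nat.card (W ⊓ Z_4) = 2 * Nat.card Z_3 = 16 = Nat.card Z_4`, so `W ⊓ Z_4 = Z_4`
(`Subgroup.eq_of_le_of_card_ge inf_le_right`), i.e. `Z_4 ≤ W`. -/
theorem orders (ha : 2 ^ 14 ≤ Nat.card T)
    (hcard : ∀ i, i ≤ 4 → Nat.card ↥(Subgroup.upperCentralSeries T i) = 2 ^ i)
    (W : Subgroup T) (hidx : W.index ≤ 8) (j : ℕ) (hj : j ≤ 3)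
    (hPW : Subgroup.upperCentralSeries T j ≤ W)
    (hchain : (Subgroup.upperCentralSeries T j).relIndex W ≤
      ((Subgroup.upperCentralSeries T j).relIndex
        (W ⊓ Subgroup.upperCentralSeries T (j + 1))) ^ W.index) :
    Nat.card T = 2 ^ 14 ∧ W.index = 8 ∧ j = 3 ∧
      (Subgroup.upperCentralSeries T 3).relIndex W = 2 ^ 8 ∧
      Subgroup.upperCentralSeries T 4 ≤ W := by
  have hy := relIndex_Y_le hcard j hj W hPW
  have hcW : Nat.card ↥(Subgroup.upperCentralSeries T j) *
      (Subgroup.upperCentralSeries T j).relIndex W = Nat.card ↥W := by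
    have := Subgroup.relIndex_mul_relIndex (⊥ : Subgroup T) (Subgroup.upperCentralSeries T j) W
      bot_le hPW
    rwa [Subgroup.relIndex_bot_left, Subgroup.relIndex_bot_left] at this
  have hcj : Nat.card ↥(Subgroup.upperCentralSeries T j) = 2 ^ j := hcard j (by omega)
  have hprod : Nat.card T = W.index * (Subgroup.upperCentralSeries T j).relIndex W * 2 ^ j := by
    rw [← Subgroup.index_mul_card W, ← hcW, hcj]
    ring
  obtain ⟨h1, h2, h3, h4, h5⟩ := orders_arith (Nat.card T) W.index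
    ((Subgroup.upperCentralSeries T j).relIndex W)
    ((Subgroup.upperCentralSeries T j).relIndex (W ⊓ Subgroup.upperCentralSeries T (j + 1)))
    j ha hidx hj hy hchain hprod
  subst h3
  refine ⟨h1, h2, rfl, h4, ?_⟩
  have hle : Subgroup.upperCentralSeries T 3 ≤ W ⊓ Subgroup.upperCentralSeries T (3 + 1) :=
    le_inf hPW (Subgroup.upperCentralSeries_mono T (by omega))
  have hcY : Nat.card ↥(Subgroup.upperCentralSeries T 3) *
      (Subgroup.upperCentralSeries T 3).relIndex (W ⊓ Subgroup.upperCentralSeries T (3 + 1)) =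
      Nat.card ↥(W ⊓ Subgroup.upperCentralSeries T (3 + 1)) := by
    have := Subgroup.relIndex_mul_relIndex (⊥ : Subgroup T) (Subgroup.upperCentralSeries T 3)
      (W ⊓ Subgroup.upperCentralSeries T (3 + 1)) bot_le hle
    rwa [Subgroup.relIndex_bot_left, Subgroup.relIndex_bot_left] at this
  rw [h5, hcj] at hcY
  have hc4 : Nat.card ↥(Subgroup.upperCentralSeries T (3 + 1)) = 2 ^ (3 + 1) :=
    hcard (3 + 1) (by omega)
  have heq : W ⊓ Subgroup.upperCentralSeries T (3 + 1) = Subgroup.upperCentralSeries T (3 + 1) := by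
    apply Subgroup.eq_of_le_of_card_ge inf_le_right
    rw [hc4, ← hcY]
    norm_num
  have : Subgroup.upperCentralSeries T (3 + 1) ≤ W := by
    rw [← heq]; exact inf_le_left
  exact this

end Cfsg.Agent.Lib.Helper19.RU
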