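import Mathlib
import Cfsg.Agent.Lib.Helper1.Frattini
import Cfsg.Agent.Lib.Helper19.RU.A05

set_option autoImplicit false

/-! S3174 Part I, leaf A15: `W' ≤ Phi(W)` and squares lie in `Phi(W)`, written inside `T`. -/

namespace Cfsg.Agent.Lib.Helper19.RU

open scoped commutatorElement

variable {T : Type*} [Group T] [Finite T]

/-- RECIPE: `↥W` is a finite `2`-group (`hT.to_subgroup W`).  For `u v ∈ W`,
`⁅(⟨u,_⟩ : ↥W), ⟨v,_⟩⁆ ∈ commutator ↥W` (`Subgroup.commutator_mem_commutator` with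
`Subgroup.mem_top`, `commutator_def`) `≤ frattini ↥W`
(`Cfsg.Agent.Lib.Helper1.IsPGroup.commutator_le_frattini`, needs `Fact (Nat.Prime 2)`), and its
image under `W.subtype` is `⁅u,v⁆`; use `mem_map_subtype_iff` (A05). -/
theorem comm_mem_Phi (hT : IsPGroup 2 T) (W : Subgroup T) :
    ∀ u ∈ W, ∀ v ∈ W, ⁅u, v⁆ ∈ (frattini ↥W).map W.subtype := by
  intro u hu v hv
  have : Fact (Nat.Prime 2) := Nat.fact_prime_two
  have hW : IsPGroup 2 ↥W := hT.to_subgroup W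
  have h1 : ⁅(⟨u, hu⟩ : ↥W), ⟨v, hv⟩⁆ ∈ commutator ↥W := by
    rw [commutator_def]
    exact Subgroup.commutator_mem_commutator (Subgroup.mem_top _) (Subgroup.mem_top _)
  have h2 := Cfsg.Agent.Lib.Helper1.IsPGroup.commutator_le_frattini hW h1
  rw [mem_map_subtype_iff]
  have hmem : ⁅u, v⁆ ∈ W := by
    rw [commutatorElement_def]
    exact W.mul_mem (W.mul_mem (W.mul_mem hu hv) (W.inv_mem hu)) (W.inv_mem hv)
  refine ⟨hmem, ?_⟩
  have : (⟨⁅u, v⁆, hmem⟩ : ↥W) = ⁅(⟨u, hu⟩ : ↥W), ⟨v, hv⟩⁆ := by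
    apply Subtype.ext
    simp [commutatorElement_def]
  rw [this]
  exact h2

/-- RECIPE: `Cfsg.Agent.Lib.Helper1.IsPGroup.pow_mem_frattini (hT.to_subgroup W) ⟨w,hw⟩` and
`mem_map_subtype_iff`. -/
theorem sq_mem_Phi (hT : IsPGroup 2 T) (W : Subgroup T) :
    ∀ w ∈ W, w ^ 2 ∈ (frattini ↥W).map W.subtype := by
  intro w hw
  have : Fact (Nat.Prime 2) := Nat.fact_prime_two
  have hW : IsPGroup 2 ↥W := hT.to_subgroup W
  have h2 := Cfsg.Agent.Lib.Helper1.IsPGroup.pow_mem_frattini hW (⟨w, hw⟩ : ↥W)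
  rw [mem_map_subtype_iff]
  refine ⟨W.pow_mem hw 2, ?_⟩
  have : (⟨w ^ 2, W.pow_mem hw 2⟩ : ↥W) = (⟨w, hw⟩ : ↥W) ^ 2 := by
    apply Subtype.ext
    simp
  rw [this]
  exact h2

end Cfsg.Agent.Lib.Helper19.RU
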