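import Mathlib
import Cfsg.Agent.Lib.Helper8.RU2

set_option autoImplicit false

/-! S3174 glue leaf G2 (= blueprint Part II), filled from helper8's `Lib/Helper8/RU2.lean`. -/

namespace Cfsg.Agent.Lib.Helper19.RU

/-- II.2: `Phi(G) = G'`. -/
theorem frattini_eq_commutator {G : Type*} [Group G] [Finite G] (hG : IsPGroup 2 G)
    (hcen : frattini G ≤ Subgroup.center G) (hc : Nat.card ↥(frattini G) ≤ 8)
    (hd : ∀ U : Subgroup G, U.index ≤ 16 → frattini G ≤ U) :
    frattini G = commutator G :=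
  Cfsg.Agent.Lib.Helper8.RU2.frattini_eq_commutator hG hcen hc hd

/-- II.3: `G'` has exponent 2 when `Phi(G) ≤ Z(G)`. -/
theorem commutator_sq {G : Type*} [Group G] [Finite G] (hG : IsPGroup 2 G)
    (hcen : frattini G ≤ Subgroup.center G) :
    ∀ c ∈ commutator G, c ^ 2 = 1 :=
  Cfsg.Agent.Lib.Helper8.RU2.commutator_sq hG hcen

end Cfsg.Agent.Lib.Helper19.RU
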