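import Mathlib
import Cfsg.Agent.Lib.Helper1.RU3

set_option autoImplicit false

/-! S3174 glue leaf G3 (= blueprint Part III, the `D8` quotient), filled from helper1's
`Lib/Helper1/RU3.lean`. -/

namespace Cfsg.Agent.Lib.Helper19.RU

variable {T : Type*} [Group T] [Finite T]

/-- III: `T / W` is dihedral of order 8. -/
theorem quot_dihedral
    (hcard : ∀ i, i ≤ 4 → Nat.card ↥(Subgroup.upperCentralSeries T i) = 2 ^ i)
    (hexp : ∀ c ∈ Subgroup.upperCentralSeries T 3, c * c = 1)
    (W : Subgroup T)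
    (hW : W = Subgroup.centralizer ((Subgroup.upperCentralSeries T 3 : Subgroup T) : Set T))
    (hidx : W.index = 8) :
    ∃ (_ : W.Normal), Nonempty (T ⧸ W ≃* DihedralGroup 4) := by
  obtain ⟨hn, hD, _⟩ := Cfsg.Agent.Lib.Helper1.RU3.chain
    (by simpa using hcard 1 (by norm_num)) (by simpa using hcard 2 (by norm_num))
    (by simpa using hcard 3 (by norm_num)) hexp W hW hidx
  exact ⟨hn, hD⟩

end Cfsg.Agent.Lib.Helper19.RU
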