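import Mathlib
import Cfsg.Agent.Lib.Helper12.RU4.Defs
import Cfsg.Agent.Lib.Helper6.RUG5

set_option autoImplicit false

/-! S3174 glue leaf G5 (= blueprint I.7, the three equalities `image = kernel`).
RESERVED FOR helper1 (import `Cfsg/Agent/Lib/Helper1/RUChain.lean` etc. here and prove it). -/

namespace Cfsg.Agent.Lib.Helper19.RU

open Cfsg.Agent.Lib.Helper12.RU4

variable {T : Type*} [Group T] [Finite T]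

/-- I.7 for the concrete chain `W < T1 = W⟨z⟩ < T2 = T1⟨s⟩ < T = T2⟨x⟩`.
Put `Y0 = W`, `Y1 = {w ∈ W | [w,T1] ≤ Z3}`, `Y2 = {w ∈ W | [w,T2] ≤ Z3}`, `Y3 = Y`.  Each `Y_i` is a
normal subgroup of `T` containing `Z3` (`T_i`, `W`, `Z3` normal), `Y_i / Z3` is elementary abelian
(`hcomm`, `hsq`), `g_i ∈ {z, s, x}` normalizes `Y_i`, `g_i²` acts trivially on `Y_i / Z3`
(`z² ∈ W`, `s² ∈ W` by `hT2sq`; `x² ∈ zW ⊆ T1 ⊆ T2` by `hx2`), and the kernel of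
`v ↦ cm v g_i` on `Y_i / Z3` is `Y_{i+1} / Z3` (`hT1`, `hT2`, `hT`).  One-step lemma:
`|Y_i : Z3| ≤ |Y_{i+1} : Z3|²`, with equality forcing `image = kernel`.  Here
`2^8 = |W : Z3| ≤ |Y1 : Z3|² ≤ |Y2 : Z3|⁴ ≤ |Y : Z3|⁸ = 2^8`, so all are equalities. -/
theorem three_step (hT : IsPGroup 2 T) (Z3 Y W T1 T2 : Subgroup T) (z s x : T)
    (hZ3W : Z3 ≤ W) (hWT1 : W ≤ T1) (hT12 : T1 ≤ T2)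
    (hZ3n : Z3.Normal) (hWn : W.Normal) (hT1n : T1.Normal) (hT2n : T2.Normal)
    (hcomm : ∀ u ∈ W, ∀ v ∈ W, cm u v ∈ Z3) (hsq : ∀ w ∈ W, w * w ∈ Z3)
    (hz : z ∈ T1) (hT1 : ∀ t ∈ T1, t ∈ W ∨ z⁻¹ * t ∈ W)
    (hs : s ∈ T2) (hT2 : ∀ t ∈ T2, t ∈ T1 ∨ s⁻¹ * t ∈ T1)
    (hT' : ∀ t : T, t ∈ T2 ∨ x⁻¹ * t ∈ T2)
    (hT2sq : ∀ t ∈ T2, t * t ∈ W) (hx2 : z⁻¹ * (x * x) ∈ W)
    (hY : ∀ w : T, w ∈ Y ↔ w ∈ W ∧ ∀ t : T, cm w t ∈ Z3)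
    (hcardW : Nat.card ↥W = 2 ^ 8 * Nat.card ↥Z3)
    (hcardY : Nat.card ↥Y = 2 * Nat.card ↥Z3) :
    ∃ Y1 : Subgroup T,
      (∀ w : T, w ∈ Y1 ↔ w ∈ W ∧ ∀ y ∈ T1, cm w y ∈ Z3) ∧
      Nat.card ↥Y1 = 2 ^ 4 * Nat.card ↥Z3 ∧
      (∀ v ∈ W, (∀ y ∈ T1, cm v y ∈ Z3) → ∃ u ∈ W, (cm u z)⁻¹ * v ∈ Z3) ∧
      (∀ v ∈ W, (∀ y ∈ T2, cm v y ∈ Z3) →
        ∃ u ∈ W, (∀ y ∈ T1, cm u y ∈ Z3) ∧ (cm u s)⁻¹ * v ∈ Z3) ∧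
      (∀ v ∈ W, (∀ t : T, cm v t ∈ Z3) →
        ∃ u ∈ W, (∀ y ∈ T2, cm u y ∈ Z3) ∧ (cm u x)⁻¹ * v ∈ Z3) := by
  exact Cfsg.Agent.Lib.Helper6.RUG5.three_step Z3 Y W T1 T2 z s x hZ3W hWT1 hT12 hZ3n hWn hT1n hT2n
    hcomm hsq hz hT1 hs hT2 hT' hT2sq hx2 hY hcardW hcardY

end Cfsg.Agent.Lib.Helper19.RU
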