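import Mathlib
import Cfsg.Agent.Lib.Helper19.RU.A01
import Cfsg.Agent.Lib.Helper19.RU.A02
import Cfsg.Agent.Lib.Helper19.RU.A04
import Cfsg.Agent.Lib.Helper19.RU.A05
import Cfsg.Agent.Lib.Helper19.RU.A06
import Cfsg.Agent.Lib.Helper19.RU.A07
import Cfsg.Agent.Lib.Helper19.RU.A10
import Cfsg.Agent.Lib.Helper19.RU.A11
import Cfsg.Agent.Lib.Helper19.RU.A14
import Cfsg.Agent.Lib.Helper19.RU.A15

set_option autoImplicit false

/-! S3174 Part I: orders.  Sorry-free modulo the leaves A01-A15. -/

namespace Cfsg.Agent.Lib.Helper19.RU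

open scoped commutatorElement

variable {T : Type*} [Group T] [Finite T]

/-- Output of Part I of the blueprint `notes/S3174_blueprint_helper19.md`. -/
theorem partI (hT : IsPGroup 2 T) (ha : 2 ^ 14 ≤ Nat.card T)
    (hb : Nat.card ↥(Subgroup.upperCentralSeries T 4) = 16)
    (W : Subgroup T)
    (hW : W = Subgroup.centralizer ((Subgroup.upperCentralSeries T 3 : Subgroup T) : Set T))
    (hc : Nat.card ↥(frattini ↥W) ≤ 8) :
    W.Normal ∧
    (∀ i, i ≤ 4 → Nat.card ↥(Subgroup.upperCentralSeries T i) = 2 ^ i) ∧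
    (frattini ↥W).map W.subtype = Subgroup.upperCentralSeries T 3 ∧
    frattini ↥W ≤ Subgroup.center ↥W ∧
    Nat.card T = 2 ^ 14 ∧ W.index = 8 ∧
    (Subgroup.upperCentralSeries T 3).relIndex W = 2 ^ 8 ∧
    Subgroup.upperCentralSeries T 4 ≤ W := by
  have hWn : W.Normal := by
    rw [hW]; infer_instance
  have hcard := ucs_card hT ha hb
  obtain ⟨j, hj, hP⟩ := Phi_eq_ucs hT ha hb W hWn hc
  have hcen := frattini_le_center W hW j hj hP
  have hidx : W.index ≤ 8 :=
    index_W_le (by simpa using hcard 1 (by norm_num)) (by simpa using hcard 2 (by norm_num))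
      (by simpa using hcard 3 (by norm_num)) W hW
  have hPW : Subgroup.upperCentralSeries T j ≤ W := by
    rw [← hP]; exact map_subtype_le W _
  have hchain := chain_bound hT W (Subgroup.upperCentralSeries T j)
    (W ⊓ Subgroup.upperCentralSeries T (j + 1)) hWn inferInstance hPW
    (by rw [← hP]; exact comm_mem_Phi hT W) (by rw [← hP]; exact sq_mem_Phi hT W)
    (by
      intro w hw h
      refine Subgroup.mem_inf.mpr ⟨hw, ?_⟩
      rw [Subgroup.mem_upperCentralSeries_succ_iff]
      intro t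
      exact h t)
  obtain ⟨h1, h2, h3, h4, h5⟩ := orders ha hcard W hidx j hj hPW hchain
  subst h3
  exact ⟨hWn, hcard, hP, hcen, h1, h2, h4, h5⟩

end Cfsg.Agent.Lib.Helper19.RU
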