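import Mathlib
import Cfsg.Agent.Lib.Helper19.RU.PartI
import Cfsg.Agent.Lib.Helper19.RU.G5
import Cfsg.Agent.Lib.Helper8.RU2T
import Cfsg.Agent.Lib.Helper1.RU3
import Cfsg.Agent.Lib.Helper12.RU4.Defs

set_option autoImplicit false

/-! S3174: build helper12's `RU4.Cfg` (the input of Part IV) from the original hypotheses. -/

namespace Cfsg.Agent.Lib.Helper19.RU

open Cfsg.Agent.Lib.Helper12.RU4
open scoped commutatorElement

variable {T : Type*} [Group T] [Finite T]

/-- `|K| = |K : H| * |H|` for `H ≤ K`. -/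
theorem card_eq_relIndex_mul {H K : Subgroup T} (hHK : H ≤ K) :
    Nat.card ↥K = H.relIndex K * Nat.card ↥H := by
  have h0 := Subgroup.card_mul_index (H.subgroupOf K)
  rw [Nat.card_congr (Subgroup.subgroupOfEquivOfLe hHK).toEquiv] at h0
  rw [mul_comm]
  exact h0.symm

/-- The configuration of Part IV exists. -/
theorem exists_cfg (hT : IsPGroup 2 T) (ha : 2 ^ 14 ≤ Nat.card T)
    (hb : Nat.card ↥(Subgroup.upperCentralSeries T 4) = 16)
    (W : Subgroup T)
    (hW : W = Subgroup.centralizer ((Subgroup.upperCentralSeries T 3 : Subgroup T) : Set T))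
    (hc : Nat.card ↥(frattini ↥W) ≤ 8)
    (hd : ∀ U : Subgroup ↥W, U.index ≤ 16 → frattini ↥W ≤ U) :
    ∃ (Y1 T1 T2 : Subgroup T) (z s x : T),
      Cfg (Subgroup.upperCentralSeries T 2) (Subgroup.upperCentralSeries T 3) Y1
        (Subgroup.upperCentralSeries T 4) W T1 T2 z s x := by
  obtain ⟨hWn, hcard, hPhi, hcen, hTc, hidx, hrel, hZ4⟩ := partI hT ha hb W hW hc
  have h1 : Nat.card ↥(Subgroup.upperCentralSeries T 1) = 2 := by
    simpa using hcard 1 (by norm_num)
  have h2 : Nat.card ↥(Subgroup.upperCentralSeries T 2) = 4 := by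
    simpa using hcard 2 (by norm_num)
  have h3 : Nat.card ↥(Subgroup.upperCentralSeries T 3) = 8 := by
    simpa using hcard 3 (by norm_num)
  have h4 : Nat.card ↥(Subgroup.upperCentralSeries T 4) = 16 := hb
  have hZ23 : Subgroup.upperCentralSeries T 2 ≤ Subgroup.upperCentralSeries T 3 :=
    Subgroup.upperCentralSeries_mono T (by norm_num)
  have hZ34 : Subgroup.upperCentralSeries T 3 ≤ Subgroup.upperCentralSeries T 4 :=
    Subgroup.upperCentralSeries_mono T (by norm_num)
  have hZ3W : Subgroup.upperCentralSeries T 3 ≤ W := hZ34.trans hZ4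
  have hexp : ∀ c ∈ Subgroup.upperCentralSeries T 3, c * c = 1 := by
    have := Cfsg.Agent.Lib.Helper8.RU2.phi_sq hT W hcen hc hd
    rwa [hPhi] at this
  have hcomm : ∀ u ∈ W, ∀ v ∈ W, cm u v ∈ Subgroup.upperCentralSeries T 3 := by
    have := Cfsg.Agent.Lib.Helper8.RU2.cm_mem_phi hT W
    rwa [hPhi] at this
  have hsq : ∀ w ∈ W, w * w ∈ Subgroup.upperCentralSeries T 3 := by
    have := Cfsg.Agent.Lib.Helper8.RU2.sq_mem_phi hT W
    rwa [hPhi] at this
  have hII1 := Cfsg.Agent.Lib.Helper8.RU2.hII1_of_hd hT W hd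
  rw [hPhi] at hII1
  obtain ⟨_, _, T1, T2, z, s, x, hT2def, hWT1, hT12, hT1n, hT2n, hz, hzW, hT1, hs, hsT1, hT2,
    hxT2, hTx, hT2sq, hT1c, hT2c, hx2, hZ32⟩ :=
    Cfsg.Agent.Lib.Helper1.RU3.chain h1 h2 h3 hexp W hW hidx
  have hZ3n : (Subgroup.upperCentralSeries T 3).Normal := inferInstance
  have hZ2n : (Subgroup.upperCentralSeries T 2).Normal := inferInstance
  -- `Y = Z_4`
  have hY : ∀ w : T, w ∈ Subgroup.upperCentralSeries T 4 ↔
      w ∈ W ∧ ∀ t : T, cm w t ∈ Subgroup.upperCentralSeries T 3 := by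
    intro w
    constructor
    · intro hw
      exact ⟨hZ4 hw, fun t => Cfsg.Agent.Lib.Helper1.RU3.cm_mem_ucs (n := 3) hw t⟩
    · rintro ⟨_, hw⟩
      rw [Subgroup.mem_upperCentralSeries_succ_iff]
      intro g
      have h := hw g⁻¹
      have e : ⁅w, g⁆ = w * (cm w g⁻¹)⁻¹ * w⁻¹ := by
        rw [commutatorElement_def]; unfold cm; group
      rw [e]
      exact hZ3n.conj_mem _ (Subgroup.inv_mem _ h) _
  have hcardW : Nat.card ↥W = 2 ^ 8 * Nat.card ↥(Subgroup.upperCentralSeries T 3) := by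
    rw [card_eq_relIndex_mul hZ3W, hrel]
  have hcardY : Nat.card ↥(Subgroup.upperCentralSeries T 4) =
      2 * Nat.card ↥(Subgroup.upperCentralSeries T 3) := by
    rw [h4, h3]
  obtain ⟨Y1, hY1, hcardY1, hE1, hE2, hE3⟩ := three_step hT (Subgroup.upperCentralSeries T 3)
    (Subgroup.upperCentralSeries T 4) W T1 T2 z s x hZ3W hWT1 hT12 hZ3n hWn hT1n hT2n hcomm hsq
    hz hT1 hs hT2 hTx hT2sq hx2 hY hcardW hcardY
  -- `|Y : Z_3| = 2`
  have hYZ3 : ∃ y ∈ Subgroup.upperCentralSeries T 4, y ∉ Subgroup.upperCentralSeries T 3 ∧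
      ∀ c ∈ Subgroup.upperCentralSeries T 4,
        c ∈ Subgroup.upperCentralSeries T 3 ∨ y⁻¹ * c ∈ Subgroup.upperCentralSeries T 3 := by
    have hne : Subgroup.upperCentralSeries T 3 ≠ Subgroup.upperCentralSeries T 4 := by
      intro h
      rw [h] at h3
      omega
    obtain ⟨y, hy4, hy3⟩ := SetLike.exists_of_lt (lt_of_le_of_ne hZ34 hne)
    exact ⟨y, hy4, hy3, Cfsg.Agent.Lib.Helper1.RU3.coset_of_card hZ34 hcardY hy4 hy3⟩
  refine ⟨Y1, T1, T2, z, s, x, ?_⟩
  exact
    { hZ23 := hZ23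
      hZ3W := hZ3W
      hWT1 := hWT1
      hT12 := hT12
      hZ2n := hZ2n
      hZ3n := hZ3n
      hWn := hWn
      hT1n := hT1n
      hT2n := hT2n
      hZ3c := by
        intro c hc' w hw
        rw [hW] at hw
        exact Subgroup.mem_centralizer_iff.mp hw c hc'
      hZ3sq := hexp
      hcomm := hcomm
      hsq := hsq
      hZ3T := fun c hc' t => Cfsg.Agent.Lib.Helper1.RU3.cm_mem_ucs (n := 2) hc' t
      hZ2T2 := by
        intro c hc' t ht
        rw [hT2def] at ht
        exact Subgroup.mem_centralizer_iff.mp ht c hc'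
      hZ32 := hZ32
      hWcen := by
        intro t ht
        rw [hW]
        exact Subgroup.mem_centralizer_iff.mpr ht
      hz := hz
      hzW := hzW
      hT1 := hT1
      hs := hs
      hsT1 := hsT1
      hT2 := hT2
      hxT2 := hxT2
      hT := hTx
      hT2sq := hT2sq
      hT1c := hT1c
      hT2c := hT2c
      hx2 := hx2
      hY1 := hY1
      hY := hY
      hYZ3 := hYZ3
      hE1 := hE1
      hE2 := hE2
      hE3 := hE3
      hcardW := hcardW
      hcardY1 := hcardY1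
      hII1 := hII1 }

end Cfsg.Agent.Lib.Helper19.RU
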