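import Mathlib
import Cfsg.Agent.Lib.Helper19.RU.MkCfg
import Cfsg.Agent.Lib.Helper12.RU4.Main

set_option autoImplicit false

/-! S3174 glue leaf G4 (= blueprint Part IV, `Z(W) = Z_3`): helper12's `RU4.center_le` applied to the
configuration built in `MkCfg.lean`. -/

namespace Cfsg.Agent.Lib.Helper19.RU

variable {T : Type*} [Group T] [Finite T]

/-- IV: every element of `W` centralizing `W` lies in `Z_3`. -/
theorem center_le (hT : IsPGroup 2 T) (ha : 2 ^ 14 ≤ Nat.card T)
    (hb : Nat.card ↥(Subgroup.upperCentralSeries T 4) = 16)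
    (W : Subgroup T)
    (hW : W = Subgroup.centralizer ((Subgroup.upperCentralSeries T 3 : Subgroup T) : Set T))
    (hc : Nat.card ↥(frattini ↥W) ≤ 8)
    (hd : ∀ U : Subgroup ↥W, U.index ≤ 16 → frattini ↥W ≤ U) :
    ∀ c ∈ W, (∀ w ∈ W, c * w = w * c) → c ∈ Subgroup.upperCentralSeries T 3 := by
  obtain ⟨Y1, T1, T2, z, s, x, h⟩ := exists_cfg hT ha hb W hW hc hd
  exact Cfsg.Agent.Lib.Helper12.RU4.center_le hT h

end Cfsg.Agent.Lib.Helper19.RU
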